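import Groth.Agent.KoszulCone.Trans
import Groth.Agent.LocCohLib.Basic

/-!
Direct-limit Koszul cohomology as an effaceable δ-functor, and its comparison with local cohomology.
-/

set_option autoImplicit false
universe u

open CategoryTheory CategoryTheory.Limits CochainComplex

namespace Groth.Agent.KoszulCone

variable {A : Type u} [CommRing A]

/-- `colim_n H^d(fs^n; M)` in the degrees of the complexes. -/
abbrev Lim (M : ModuleCat.{u} A) (fs : List A) (d : ℤ) : Type u :=
  Module.DirectLimit (fun n : ℕ => ((powCx M fs n).homology d : Type u)) (fun _ _ h => transH M fs h d)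

instance (M : ModuleCat.{u} A) (fs : List A) (d : ℤ) :
    DirectedSystem (fun n : ℕ => ((powCx M fs n).homology d : Type u)) (fun _ _ h => transH M fs h d) where
  map_self := fun _ x => transH_refl M fs d x
  map_map := fun _ _ _ h h' x => transH_transH M fs h h' d x

/-- The class in the limit. -/
noncomputable abbrev cls (M : ModuleCat.{u} A) (fs : List A) (d : ℤ) (n : ℕ) :
    (powCx M fs n).homology d →ₗ[A] Lim M fs d :=
  Module.DirectLimit.of A ℕ _ (fun _ _ h => transH M fs h d) n

lemma cls_trans (M : ModuleCat.{u} A) (fs : List A) (d : ℤ) {n m : ℕ} (h : n ≤ m)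
    (x : (powCx M fs n).homology d) : cls M fs d m (transH M fs h d x) = cls M fs d n x :=
  Module.DirectLimit.of_f

lemma cls_eq_zero_iff (M : ModuleCat.{u} A) (fs : List A) (d : ℤ) {n : ℕ} (x : (powCx M fs n).homology d) :
    cls M fs d n x = 0 ↔ ∃ (m : ℕ) (h : n ≤ m), transH M fs h d x = 0 := by
  refine ⟨fun h => Module.DirectLimit.of.zero_exact h, ?_⟩
  rintro ⟨m, h, hx⟩
  rw [← cls_trans M fs d h, hx, map_zero]

theorem subsingleton_lim_of_injective [IsNoetherianRing A] (M : ModuleCat.{u} A) [Module.Injective A M]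
    (fs : List A) (d : ℤ) (hd : -(fs.length : ℤ) < d) : Subsingleton (Lim M fs d) := by
  refine subsingleton_of_forall_eq 0 fun z => ?_
  obtain ⟨n, x, rfl⟩ := Module.DirectLimit.exists_of z
  exact (cls_eq_zero_iff M fs d x).2 (exists_transH_eq_zero M fs d hd n x)

/-- Functoriality of the limit. -/
noncomputable def limMap {M N : ModuleCat.{u} A} (φ : M ⟶ N) (fs : List A) (d : ℤ) : Lim M fs d →ₗ[A] Lim N fs d :=
  Module.DirectLimit.map (fun n => (HomologicalComplex.homologyMap (koszulMap φ (fs.map (· ^ n))) d).hom)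
    (fun n m h => by
      refine LinearMap.ext fun x => ?_
      have e := congrArg (fun k => HomologicalComplex.homologyMap k d) (koszulTrans_naturality φ h fs)
      simp only [HomologicalComplex.homologyMap_comp] at e
      exact ConcreteCategory.congr_hom e x)

lemma limMap_cls {M N : ModuleCat.{u} A} (φ : M ⟶ N) (fs : List A) (d : ℤ) (n : ℕ)
    (x : (powCx M fs n).homology d) :
    limMap φ fs d (cls M fs d n x) =
      cls N fs d n (HomologicalComplex.homologyMap (koszulMap φ (fs.map (· ^ n))) d x) :=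
  Module.DirectLimit.map_apply_of _ _ _

section Delta

variable {S : ShortComplex (ModuleCat.{u} A)} (hS : S.ShortExact) (fs : List A) (d d' : ℤ) (hd : d + 1 = d')

/-- The connecting map at level `n`. -/
noncomputable abbrev δn (n : ℕ) : (powCx S.X₃ fs n).homology d ⟶ (powCx S.X₁ fs n).homology d' :=
  (koszulShortComplex_shortExact hS (fs.map (· ^ n))).δ d d' hd

lemma δn_trans {n m : ℕ} (h : n ≤ m) :
    δn hS fs d d' hd n ≫ HomologicalComplex.homologyMap (CohIII.koszulTrans S.X₁ n m h fs) d' =
      HomologicalComplex.homologyMap (CohIII.koszulTrans S.X₃ n m h fs) d ≫ δn hS fs d d' hd m :=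
  HomologicalComplex.HomologySequence.δ_naturality
    (φ := ShortComplex.homMk (S₁ := koszulShortComplex S (fs.map (· ^ n)))
      (S₂ := koszulShortComplex S (fs.map (· ^ m))) (CohIII.koszulTrans S.X₁ n m h fs)
      (CohIII.koszulTrans S.X₂ n m h fs) (CohIII.koszulTrans S.X₃ n m h fs)
      (koszulTrans_naturality S.f h fs) (koszulTrans_naturality S.g h fs))
    (koszulShortComplex_shortExact hS _) (koszulShortComplex_shortExact hS _) d d' hd

/-- The connecting map. -/
noncomputable def limδ : Lim S.X₃ fs d →ₗ[A] Lim S.X₁ fs d' :=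
  Module.DirectLimit.map (fun n => (δn hS fs d d' hd n).hom) (fun n m h => LinearMap.ext fun x =>
    (ConcreteCategory.congr_hom (δn_trans hS fs d d' hd h) x).symm)

lemma limδ_cls (n : ℕ) (x : (powCx S.X₃ fs n).homology d) :
    limδ hS fs d d' hd (cls S.X₃ fs d n x) = cls S.X₁ fs d' n (δn hS fs d d' hd n x) :=
  Module.DirectLimit.map_apply_of _ _ _

include hd in
lemma limδ_surjective (h0 : Subsingleton (Lim S.X₂ fs d')) : Function.Surjective (limδ hS fs d d' hd) := by
  intro w
  obtain ⟨n, x, rfl⟩ := Module.DirectLimit.exists_of w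
  obtain ⟨m, h, hm⟩ := (cls_eq_zero_iff S.X₂ fs d' _).1
    ((limMap_cls S.f fs d' n x).symm.trans (h0.elim _ 0))
  have e := ConcreteCategory.congr_hom
    (congrArg (fun k => HomologicalComplex.homologyMap k d') (koszulTrans_naturality S.f h fs)) x
  simp only [HomologicalComplex.homologyMap_comp] at e
  obtain ⟨y, hy⟩ := (ShortComplex.moduleCat_exact_iff _).1
    ((koszulShortComplex_shortExact hS (fs.map (· ^ m))).homology_exact₁ d d' hd)
    (transH S.X₁ fs h d' x) (e.trans hm)
  exact ⟨cls S.X₃ fs d m y, (limδ_cls hS fs d d' hd m y).trans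
    ((congrArg (cls S.X₁ fs d' m) hy).trans (cls_trans _ _ _ h _))⟩

lemma limδ_eq_zero_iff (w : Lim S.X₃ fs d) :
    limδ hS fs d d' hd w = 0 ↔ ∃ v, limMap S.g fs d v = w := by
  constructor
  · obtain ⟨n, x, rfl⟩ := Module.DirectLimit.exists_of w
    intro hw
    obtain ⟨m, h, hm⟩ := (cls_eq_zero_iff S.X₁ fs d' _).1 ((limδ_cls hS fs d d' hd n x).symm.trans hw)
    obtain ⟨y, hy⟩ := (ShortComplex.moduleCat_exact_iff _).1
      ((koszulShortComplex_shortExact hS (fs.map (· ^ m))).homology_exact₃ d d' hd)
      (transH S.X₃ fs h d x) ((ConcreteCategory.congr_hom (δn_trans hS fs d d' hd h) x).symm.trans hm)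
    exact ⟨cls S.X₂ fs d m y, (limMap_cls S.g fs d m y).trans
      ((congrArg (cls S.X₃ fs d m) hy).trans (cls_trans _ _ _ h _))⟩
  · rintro ⟨v, rfl⟩
    obtain ⟨n, x, rfl⟩ := Module.DirectLimit.exists_of v
    rw [limMap_cls, limδ_cls]
    exact (congrArg (cls S.X₁ fs d' n) (ConcreteCategory.congr_hom
      ((koszulShortComplex_shortExact hS (fs.map (· ^ n))).δ_comp d d' hd |> fun _ =>
        (koszulShortComplex_shortExact hS (fs.map (· ^ n))).comp_δ d d' hd) x)).trans (map_zero _)

end Delta

/-! ### Degree zero -/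

lemma bottom_trans_apply (M : ModuleCat.{u} A) (fs : List A) {n m : ℕ} (h : n ≤ m)
    (x : (powCx M fs n).homology (-(fs.length : ℤ))) :
    bottomMap M (fs.map (· ^ m)) _ (by simp) (transH M fs h (-(fs.length : ℤ)) x) =
      bottomMap M (fs.map (· ^ n)) _ (by simp) x :=
  ConcreteCategory.congr_hom (bottomMap_trans M h fs _ rfl) x

/-- The limit in the bottom degree maps to the module. -/
noncomputable def limBottom (M : ModuleCat.{u} A) (fs : List A) (d : ℤ) (hd : d = -(fs.length : ℤ)) :
    Lim M fs d →ₗ[A] M :=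
  Module.DirectLimit.lift A ℕ _ _ (fun n => (bottomMap M (fs.map (· ^ n)) d (by simpa using hd)).hom)
    (fun n m h x => by subst hd; exact bottom_trans_apply M fs h x)

lemma limBottom_cls (M : ModuleCat.{u} A) (fs : List A) (d : ℤ) (hd : d = -(fs.length : ℤ)) (n : ℕ)
    (x : (powCx M fs n).homology d) :
    limBottom M fs d hd (cls M fs d n x) = bottomMap M (fs.map (· ^ n)) d (by simpa using hd) x :=
  Module.DirectLimit.lift_of _ _ _

lemma limBottom_injective (M : ModuleCat.{u} A) (fs : List A) (d : ℤ) (hd : d = -(fs.length : ℤ)) :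
    Function.Injective (limBottom M fs d hd) := by
  refine (injective_iff_map_eq_zero _).2 fun z hz => ?_
  obtain ⟨n, x, rfl⟩ := Module.DirectLimit.exists_of z
  have : x = 0 := (bottomMap_spec M (fs.map (· ^ n)) d (by simpa using hd)).1
    (((limBottom_cls M fs d hd n x).symm.trans hz).trans (map_zero _).symm)
  rw [this]
  exact map_zero _

lemma limBottom_mem_range_iff (M : ModuleCat.{u} A) (fs : List A) (d : ℤ) (hd : d = -(fs.length : ℤ)) (m : M) :
    (∃ z, limBottom M fs d hd z = m) ↔ ∃ n : ℕ, ∀ a ∈ Ideal.span {a | a ∈ fs} ^ n, a • m = 0 := by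
  let K : Ideal A := LinearMap.ker (LinearMap.toSpanSingleton A M m)
  have hb := fun n => (bottomMap_spec M (fs.map (· ^ n)) d (by simpa using hd)).2 m
  constructor
  · rintro ⟨z, hz⟩
    obtain ⟨n, x, rfl⟩ := Module.DirectLimit.exists_of z
    have h := (hb n).1 ⟨x, (limBottom_cls M fs d hd n x).symm.trans hz⟩
    obtain ⟨k, hk⟩ := Ideal.exists_pow_le_of_le_radical_of_fg (I := Ideal.span {a | a ∈ fs}) (J := K)
      (Ideal.span_le.2 fun a ha => ⟨n, h _ (List.mem_map.2 ⟨a, ha, rfl⟩)⟩)
      (Submodule.fg_span (List.finite_toSet fs))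
    exact ⟨k, fun a ha => hk ha⟩
  · rintro ⟨n, hn⟩
    obtain ⟨x, hx⟩ := (hb n).2 fun a ha => by
      obtain ⟨b, hb, rfl⟩ := List.mem_map.1 ha
      exact hn _ (Ideal.pow_mem_pow (Ideal.subset_span (α := A) (s := {a | a ∈ fs}) hb) n)
    exact ⟨cls M fs d n x, (limBottom_cls M fs d hd n x).trans hx⟩

lemma limBottom_naturality {M N : ModuleCat.{u} A} (φ : M ⟶ N) (fs : List A) (d : ℤ) (hd : d = -(fs.length : ℤ))
    (z : Lim M fs d) : limBottom N fs d hd (limMap φ fs d z) = φ (limBottom M fs d hd z) := by
  obtain ⟨n, x, rfl⟩ := Module.DirectLimit.exists_of z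
  rw [limMap_cls, limBottom_cls, limBottom_cls]
  exact ConcreteCategory.congr_hom (bottomMap_naturality φ (fs.map (· ^ n)) d (by simpa using hd)) x

/-- Two linear surjections with corresponding kernels. -/
lemma nonempty_equiv_of_surjective {X Y P Q : Type u} [AddCommGroup X] [Module A X] [AddCommGroup Y] [Module A Y]
    [AddCommGroup P] [Module A P] [AddCommGroup Q] [Module A Q] (e : X ≃ₗ[A] Y) (p : X →ₗ[A] P) (q : Y →ₗ[A] Q)
    (hp : Function.Surjective p) (hq : Function.Surjective q) (h : ∀ x, p x = 0 ↔ q (e x) = 0) :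
    Nonempty (P ≃ₗ[A] Q) := by
  refine ⟨(p.quotKerEquivOfSurjective hp).symm.trans ((Submodule.quotEquivOfEq _ _ ?_).trans
    ((q.comp e.toLinearMap).quotKerEquivOfSurjective (hq.comp e.surjective)))⟩
  ext x
  exact h x

/-- The degree-zero comparison with local cohomology. -/
theorem exists_equiv_zero (fs : List A) (d : ℤ) (hd : d = -(fs.length : ℤ)) :
    ∃ e : ∀ M : ModuleCat.{u} A, (localCohomology (Ideal.span {a | a ∈ fs}) 0).obj M ≃ₗ[A] Lim M fs d,
      ∀ (M N : ModuleCat.{u} A) (φ : M ⟶ N) x,
        e N ((localCohomology (Ideal.span {a | a ∈ fs}) 0).map φ x) = limMap φ fs d (e M x) := by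
  set I := Ideal.span {a | a ∈ fs}
  have hr : ∀ M : ModuleCat.{u} A, LinearMap.range (LocCohLib.h0 I M) = LinearMap.range (limBottom M fs d hd) :=
    fun M => Submodule.ext fun m => (LocCohLib.h0_mem_range m).trans (limBottom_mem_range_iff M fs d hd m).symm
  let e := fun M : ModuleCat.{u} A =>
    (LinearEquiv.ofInjective (LocCohLib.h0 I M) LocCohLib.h0_injective).trans
      ((LinearEquiv.ofEq _ _ (hr M)).trans
        (LinearEquiv.ofInjective (limBottom M fs d hd) (limBottom_injective M fs d hd)).symm)
  have key : ∀ (M : ModuleCat.{u} A) x, limBottom M fs d hd (e M x) = LocCohLib.h0 I M x := fun M x =>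
    congrArg Subtype.val ((LinearEquiv.ofInjective (limBottom M fs d hd)
      (limBottom_injective M fs d hd)).apply_symm_apply _)
  refine ⟨e, fun M N φ x => limBottom_injective N fs d hd ?_⟩
  rw [key, limBottom_naturality, key]
  exact LocCohLib.h0_map φ x

/-- Local cohomology is the direct limit of the Koszul cohomology of the powers. -/
theorem nonempty_localCohomology_equiv [IsNoetherianRing A] (fs : List A) :
    ∀ (i : ℕ) (M : ModuleCat.{u} A),
      Nonempty ((localCohomology (Ideal.span {a | a ∈ fs}) i).obj M ≃ₗ[A] Lim M fs ((i : ℤ) - fs.length))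
  | 0, M => by
    obtain ⟨e, -⟩ := exists_equiv_zero fs ((0 : ℕ) - fs.length : ℤ) (by simp)
    exact ⟨e M⟩
  | i + 1, M => by
    set I := Ideal.span {a | a ∈ fs}
    have hS : ShortComplex.ShortExact
        (ShortComplex.mk (Injective.ι M) (cokernel.π (Injective.ι M)) (cokernel.condition _)) :=
      { exact := ShortComplex.exact_cokernel _ }
    haveI : Module.Injective A (Injective.under M : ModuleCat.{u} A) :=
      (Module.injective_iff_injective_object A (Injective.under M : ModuleCat.{u} A)).2
        (inferInstanceAs (Injective (Injective.under M : ModuleCat.{u} A)))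
    have hd : ((i : ℤ) - fs.length) + 1 = ((i + 1 : ℕ) : ℤ) - fs.length := by push_cast; ring
    have hsurj : Function.Surjective (LocCohLib.δ hS I i) := fun w => by
      haveI := LocCohLib.subsingleton_of_injective (I := I) (M := Injective.under M) i
      exact LocCohLib.exact₁ hS w (Subsingleton.elim _ _)
    have hsurj' := limδ_surjective hS fs _ _ hd (subsingleton_lim_of_injective (Injective.under M) fs _
      (by push_cast; omega))
    cases i with
    | zero =>
      obtain ⟨e, he⟩ := exists_equiv_zero fs ((0 : ℕ) - fs.length : ℤ) (by simp)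
      refine nonempty_equiv_of_surjective (e _) _ _ hsurj hsurj' fun x => ?_
      refine Iff.trans ⟨fun h => LocCohLib.exact₃ hS x h, ?_⟩
        (Iff.trans ?_ (limδ_eq_zero_iff hS fs _ _ hd (e _ x)).symm)
      · rintro ⟨v, rfl⟩
        exact LocCohLib.δ_map_eq_zero hS v
      · constructor
        · rintro ⟨v, rfl⟩
          exact ⟨e _ v, (he _ _ _ v).symm⟩
        · rintro ⟨v, hv⟩
          obtain ⟨w, rfl⟩ := (e _).surjective v
          exact ⟨w, (e _).injective ((he _ _ _ w).trans hv)⟩
    | succ k =>
      obtain ⟨e⟩ := nonempty_localCohomology_equiv fs (k + 1) (cokernel (Injective.ι M))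
      refine nonempty_equiv_of_surjective e _ _ hsurj hsurj' fun x => ?_
      haveI := LocCohLib.subsingleton_of_injective (I := I) (M := Injective.under M) k
      haveI := subsingleton_lim_of_injective (Injective.under M) fs (((k + 1 : ℕ) : ℤ) - fs.length)
        (by push_cast; omega)
      constructor
      · intro h
        obtain ⟨v, rfl⟩ := LocCohLib.exact₃ hS x h
        rw [Subsingleton.elim v 0]
        simp
      · intro h
        obtain ⟨v, hv⟩ := (limδ_eq_zero_iff hS fs _ _ hd _).1 h
        rw [Subsingleton.elim v 0, map_zero] at hv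
        rw [e.map_eq_zero_iff.1 hv.symm, map_zero]

end Groth.Agent.KoszulCone
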