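import Groth.Prelude.Def_ega3
import Mathlib.Algebra.Homology.HomotopyCategory.ShortExact
import Mathlib.Algebra.Homology.Linear
import Mathlib.Algebra.Homology.ShortComplex.Linear
import Mathlib.Algebra.Homology.SingleHomology

/-!
The iterated-cone Koszul complex `CohIII.koszulCx`: scalars in the ideal of the sequence are homotopic to zero,
homology long exact sequence of a cone of multiplication, bounds on degrees.
-/

set_option autoImplicit false
universe u

open CategoryTheory CategoryTheory.Limits CochainComplex CochainComplex.HomComplex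

namespace Groth.Agent.KoszulCone

variable {A : Type u} [CommRing A]

/-- Multiplication by `f` on a complex. -/
noncomputable abbrev mulBy (f : A) (K : CochainComplex (ModuleCat.{u} A) ℤ) : K ⟶ K := f • 𝟙 K

lemma homologyMap_mulBy (K : CochainComplex (ModuleCat.{u} A) ℤ) (f : A) (i : ℤ) :
    HomologicalComplex.homologyMap (mulBy f K) i = f • 𝟙 (K.homology i) := by
  let S := (HomologicalComplex.shortComplexFunctor (ModuleCat.{u} A) (ComplexShape.up ℤ) i).obj K
  have h := ShortComplex.homologyMap_smul (R := A) (𝟙 S) f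
  rw [ShortComplex.homologyMap_id] at h
  exact h

lemma ofHom_mulBy (K : CochainComplex (ModuleCat.{u} A) ℤ) (f : A) :
    Cochain.ofHom (mulBy f K) = f • Cochain.ofHom (𝟙 K) := by
  ext p
  simp [mulBy]

/-- The scalars homotopic to zero on a complex. -/
noncomputable def zeroIdeal (K : CochainComplex (ModuleCat.{u} A) ℤ) : Ideal A where
  carrier := {a | ∃ h : Cochain K K (-1), δ (-1) 0 h = a • Cochain.ofHom (𝟙 K)}
  add_mem' := by
    rintro a b ⟨x, hx⟩ ⟨y, hy⟩
    exact ⟨x + y, by rw [δ_add, hx, hy, add_smul]⟩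
  zero_mem' := ⟨0, by rw [δ_zero, zero_smul]⟩
  smul_mem' := by
    rintro c a ⟨x, hx⟩
    exact ⟨c • x, by rw [δ_smul, hx, smul_smul, smul_eq_mul]⟩

lemma nonempty_homotopy_of_mem {K : CochainComplex (ModuleCat.{u} A) ℤ} {a : A} (h : a ∈ zeroIdeal K) :
    Nonempty (Homotopy (mulBy a K) 0) := by
  obtain ⟨z, hz⟩ := h
  exact ⟨(Cochain.equivHomotopy _ _).symm ⟨z, by rw [Cochain.ofHom_zero, add_zero, hz, ofHom_mulBy]⟩⟩

lemma smul_eq_zero_of_mem {K : CochainComplex (ModuleCat.{u} A) ℤ} {a : A} (h : a ∈ zeroIdeal K) {i : ℤ}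
    (x : K.homology i) : a • x = 0 := by
  obtain ⟨H⟩ := nonempty_homotopy_of_mem h
  have := H.homologyMap_eq i
  rw [homologyMap_mulBy, HomologicalComplex.homologyMap_zero] at this
  simpa using ConcreteCategory.congr_hom this x

lemma self_mem_cone (K : CochainComplex (ModuleCat.{u} A) ℤ) (f : A) :
    f ∈ zeroIdeal (mappingCone (mulBy f K)) := by
  refine ⟨(mappingCone.snd (mulBy f K)).comp (mappingCone.inl (mulBy f K)) (zero_add (-1)), ?_⟩
  rw [δ_zero_cochain_comp _ _ 0 (by lia), mappingCone.δ_inl, mappingCone.δ_snd, Cochain.ofHom_comp,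
    ofHom_mulBy, ← mappingCone.id (mulBy f K), smul_add]
  simp only [Cochain.smul_comp, Cochain.comp_smul, Cochain.comp_id, Cochain.id_comp, Cochain.neg_comp,
    Int.negOnePow_neg, Int.negOnePow_one, Units.neg_smul, one_smul, neg_neg]
  abel

lemma zeroIdeal_le_cone (K : CochainComplex (ModuleCat.{u} A) ℤ) (f : A) :
    zeroIdeal K ≤ zeroIdeal (mappingCone (mulBy f K)) := by
  rintro a ⟨h, hh⟩
  let φ := mulBy f K
  refine ⟨(mappingCone.snd φ).comp (h.comp (Cochain.ofHom (mappingCone.inr φ)) (add_zero (-1))) (zero_add (-1)) -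
    (mappingCone.fst φ).1.comp (h.comp (mappingCone.inl φ) (show (-1 : ℤ) + (-1) = -2 by lia))
      (show (1 : ℤ) + (-2) = -1 by lia), ?_⟩
  rw [δ_sub, δ_zero_cochain_comp _ _ 0 (by lia), δ_comp_ofHom, hh, mappingCone.δ_snd,
    δ_comp (mappingCone.fst φ).1 _ _ 2 (-1) 0 (by lia) (by lia) (by lia),
    δ_comp h (mappingCone.inl φ) _ 0 0 (-1) (by lia) (by lia) (by lia), hh, mappingCone.δ_inl]
  simp only [Cocycle.δ_eq_zero, Cochain.zero_comp, smul_zero, add_zero]
  rw [← mappingCone.id φ, smul_add, Cochain.ofHom_comp, show Cochain.ofHom φ = f • Cochain.ofHom (𝟙 K) from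
    ofHom_mulBy K f]
  simp only [Cochain.smul_comp, Cochain.comp_smul, Cochain.comp_id, Cochain.id_comp, Cochain.neg_comp,
    Cochain.comp_neg, Cochain.comp_add, Int.negOnePow_neg, Int.negOnePow_one, Units.neg_smul, one_smul,
    neg_neg, Cochain.comp_assoc_of_second_is_zero_cochain, Cochain.comp_assoc_of_third_is_zero_cochain]
  abel

lemma span_le_zeroIdeal (M : ModuleCat.{u} A) : ∀ fs : List A,
    Ideal.span {x | x ∈ fs} ≤ zeroIdeal (CohIII.koszulCx M fs)
  | [] => Ideal.span_le.2 fun x hx => absurd hx (by simp)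
  | f :: fs => by
    refine Ideal.span_le.2 fun x hx => ?_
    rcases List.mem_cons.1 hx with rfl | hx
    · exact self_mem_cone _ _
    · exact zeroIdeal_le_cone _ _ (span_le_zeroIdeal M fs (Ideal.subset_span hx))

lemma smul_koszulH_eq_zero (M : ModuleCat.{u} A) (fs : List A) {a : A} (ha : a ∈ Ideal.span {x | x ∈ fs})
    {i : ℤ} (x : (CohIII.koszulCx M fs).homology i) : a • x = 0 :=
  smul_eq_zero_of_mem (span_le_zeroIdeal M fs ha) x

section Diagram

variable {C : Type*} [Category C] [HasZeroMorphisms C]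

private lemma comp_zero_left {W X Y Z V W' : C} (a : W ⟶ X) (u : X ⟶ Y) (u' : W ⟶ W') (m : W' ⟶ Y) (d : Y ⟶ Z)
    (v : Z ⟶ V) (h : a ≫ u = u' ≫ m) (h0 : m ≫ d = 0) : a ≫ u ≫ d ≫ v = 0 := by
  rw [reassoc_of% h, reassoc_of% h0, zero_comp, comp_zero]

private lemma comp_zero_right {X Y Z V W W' : C} (u : X ⟶ Y) (d : Y ⟶ Z) (v : Z ⟶ V) (g : V ⟶ W)
    (m : Z ⟶ W') (v' : W' ⟶ W) (h : m ≫ v' = v ≫ g) (h0 : d ≫ m = 0) : (u ≫ d ≫ v) ≫ g = 0 := by
  rw [Category.assoc, Category.assoc, ← h, reassoc_of% h0, zero_comp, comp_zero]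

private lemma comp_square {X Y Z V X' Y' Z' V' : C} (u : X ⟶ Y) (d : Y ⟶ Z) (v : Z ⟶ V) (a : V ⟶ V')
    (c : X ⟶ X') (u' : X' ⟶ Y') (d' : Y' ⟶ Z') (v' : Z' ⟶ V') (m : Y ⟶ Y') (n : Z ⟶ Z')
    (h1 : n ≫ v' = v ≫ a) (h2 : c ≫ u' = u ≫ m) (h0 : m ≫ d' = d ≫ n) :
    (u ≫ d ≫ v) ≫ a = c ≫ u' ≫ d' ≫ v' := by
  rw [Category.assoc, Category.assoc, ← h1, reassoc_of% h2, reassoc_of% h0]

end Diagram

/-! ### The long exact sequence of a cone -/

section Cone

variable {F G : CochainComplex (ModuleCat.{u} A) ℤ} (φ : F ⟶ G)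

/-- The connecting map of a cone, `H^i(cone) ⟶ H^(i+1)(F)`. -/
noncomputable def coneδ (i j : ℤ) (h : i + 1 = j) : (mappingCone φ).homology i ⟶ F.homology j :=
  (HomotopyCategory.homologyFunctorFactors (ModuleCat.{u} A) (ComplexShape.up ℤ) i).inv.app (mappingCone φ) ≫
    (HomotopyCategory.homologyFunctor (ModuleCat.{u} A) (ComplexShape.up ℤ) 0).homologySequenceδ (mappingCone.triangleh φ) i j h ≫ (HomotopyCategory.homologyFunctorFactors (ModuleCat.{u} A) (ComplexShape.up ℤ) j).hom.app F

/-- `H^i` of the second inclusion. -/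
noncomputable abbrev coneι (i : ℤ) : G.homology i ⟶ (mappingCone φ).homology i :=
  HomologicalComplex.homologyMap (mappingCone.inr φ) i

lemma map_comp_coneι (i : ℤ) : HomologicalComplex.homologyMap φ i ≫ coneι φ i = 0 := by
  have h := (HomotopyCategory.homologyFunctor (ModuleCat.{u} A) (ComplexShape.up ℤ) 0).homologySequence_comp (mappingCone.triangleh φ)
    (HomotopyCategory.mappingCone_triangleh_distinguished φ) i
  have h1 := (HomotopyCategory.homologyFunctorFactors (ModuleCat.{u} A) (ComplexShape.up ℤ) i).hom.naturality φ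
  have h2 := (HomotopyCategory.homologyFunctorFactors (ModuleCat.{u} A) (ComplexShape.up ℤ) i).hom.naturality (mappingCone.inr φ)
  refine (cancel_epi ((HomotopyCategory.homologyFunctorFactors (ModuleCat.{u} A) (ComplexShape.up ℤ) i).hom.app F)).1 ?_
  erw [← reassoc_of% h1, ← h2, ← Category.assoc, h, zero_comp, comp_zero]

lemma exact_map_coneι (i : ℤ) : (ShortComplex.mk _ _ (map_comp_coneι φ i)).Exact := by
  refine ShortComplex.exact_of_iso ?_ ((HomotopyCategory.homologyFunctor (ModuleCat.{u} A) (ComplexShape.up ℤ) 0).homologySequence_exact₂ (mappingCone.triangleh φ)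
    (HomotopyCategory.mappingCone_triangleh_distinguished φ) i)
  exact ShortComplex.isoMk ((HomotopyCategory.homologyFunctorFactors (ModuleCat.{u} A) (ComplexShape.up ℤ) i).app _) ((HomotopyCategory.homologyFunctorFactors (ModuleCat.{u} A) (ComplexShape.up ℤ) i).app _) ((HomotopyCategory.homologyFunctorFactors (ModuleCat.{u} A) (ComplexShape.up ℤ) i).app _)
    ((HomotopyCategory.homologyFunctorFactors (ModuleCat.{u} A) (ComplexShape.up ℤ) i).hom.naturality φ).symm ((HomotopyCategory.homologyFunctorFactors (ModuleCat.{u} A) (ComplexShape.up ℤ) i).hom.naturality (mappingCone.inr φ)).symm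

lemma coneι_comp_coneδ (i j : ℤ) (h : i + 1 = j) : coneι φ i ≫ coneδ φ i j h = 0 := by
  have h0 := (HomotopyCategory.homologyFunctor (ModuleCat.{u} A) (ComplexShape.up ℤ) 0).comp_homologySequenceδ (mappingCone.triangleh φ)
    (HomotopyCategory.mappingCone_triangleh_distinguished φ) i j h
  have h2 := (HomotopyCategory.homologyFunctorFactors (ModuleCat.{u} A) (ComplexShape.up ℤ) i).inv.naturality (mappingCone.inr φ)
  exact comp_zero_left _ _ _ _ _ _ h2 h0

lemma exact_coneι_coneδ (i j : ℤ) (h : i + 1 = j) :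
    (ShortComplex.mk _ _ (coneι_comp_coneδ φ i j h)).Exact := by
  refine ShortComplex.exact_of_iso ?_ ((HomotopyCategory.homologyFunctor (ModuleCat.{u} A) (ComplexShape.up ℤ) 0).homologySequence_exact₃ (mappingCone.triangleh φ)
    (HomotopyCategory.mappingCone_triangleh_distinguished φ) i j h)
  refine ShortComplex.isoMk ((HomotopyCategory.homologyFunctorFactors (ModuleCat.{u} A) (ComplexShape.up ℤ) i).app _) ((HomotopyCategory.homologyFunctorFactors (ModuleCat.{u} A) (ComplexShape.up ℤ) i).app _) ((HomotopyCategory.homologyFunctorFactors (ModuleCat.{u} A) (ComplexShape.up ℤ) j).app _)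
    ((HomotopyCategory.homologyFunctorFactors (ModuleCat.{u} A) (ComplexShape.up ℤ) i).hom.naturality (mappingCone.inr φ)).symm ?_
  exact Iso.hom_inv_id_app_assoc (HomotopyCategory.homologyFunctorFactors (ModuleCat.{u} A) (ComplexShape.up ℤ) i) _ _

lemma coneδ_comp_map (i j : ℤ) (h : i + 1 = j) : coneδ φ i j h ≫ HomologicalComplex.homologyMap φ j = 0 := by
  have h0 := (HomotopyCategory.homologyFunctor (ModuleCat.{u} A) (ComplexShape.up ℤ) 0).homologySequenceδ_comp (mappingCone.triangleh φ)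
    (HomotopyCategory.mappingCone_triangleh_distinguished φ) i j h
  have h2 := (HomotopyCategory.homologyFunctorFactors (ModuleCat.{u} A) (ComplexShape.up ℤ) j).hom.naturality φ
  exact comp_zero_right _ _ _ _ _ _ h2 h0

lemma exact_coneδ_map (i j : ℤ) (h : i + 1 = j) :
    (ShortComplex.mk _ _ (coneδ_comp_map φ i j h)).Exact := by
  refine ShortComplex.exact_of_iso ?_ ((HomotopyCategory.homologyFunctor (ModuleCat.{u} A) (ComplexShape.up ℤ) 0).homologySequence_exact₁ (mappingCone.triangleh φ)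
    (HomotopyCategory.mappingCone_triangleh_distinguished φ) i j h)
  refine ShortComplex.isoMk ((HomotopyCategory.homologyFunctorFactors (ModuleCat.{u} A) (ComplexShape.up ℤ) i).app _) ((HomotopyCategory.homologyFunctorFactors (ModuleCat.{u} A) (ComplexShape.up ℤ) j).app _) ((HomotopyCategory.homologyFunctorFactors (ModuleCat.{u} A) (ComplexShape.up ℤ) j).app _) ?_
    ((HomotopyCategory.homologyFunctorFactors (ModuleCat.{u} A) (ComplexShape.up ℤ) j).hom.naturality φ).symm
  exact Iso.hom_inv_id_app_assoc (HomotopyCategory.homologyFunctorFactors (ModuleCat.{u} A) (ComplexShape.up ℤ) i) _ _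

variable {F' G' : CochainComplex (ModuleCat.{u} A) ℤ} (φ' : F' ⟶ G') (a : F ⟶ F') (b : G ⟶ G')
  (comm : φ ≫ b = a ≫ φ')

lemma coneι_naturality (i : ℤ) :
    coneι φ i ≫ HomologicalComplex.homologyMap (mappingCone.map φ φ' a b comm) i =
      HomologicalComplex.homologyMap b i ≫ coneι φ' i := by
  rw [← HomologicalComplex.homologyMap_comp, ← HomologicalComplex.homologyMap_comp]
  congr 1
  simp [mappingCone.map]

lemma coneδ_naturality (i j : ℤ) (h : i + 1 = j) :
    coneδ φ i j h ≫ HomologicalComplex.homologyMap a j =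
      HomologicalComplex.homologyMap (mappingCone.map φ φ' a b comm) i ≫ coneδ φ' i j h := by
  have h0 := (HomotopyCategory.homologyFunctor (ModuleCat.{u} A) (ComplexShape.up ℤ) 0).homologySequenceδ_naturality (mappingCone.triangleh φ) (mappingCone.triangleh φ')
    ((HomotopyCategory.quotient (ModuleCat.{u} A) (ComplexShape.up ℤ)).mapTriangle.map
      (mappingCone.triangleMap φ φ' a b comm)) i j h
  have h1 := (HomotopyCategory.homologyFunctorFactors (ModuleCat.{u} A) (ComplexShape.up ℤ) j).hom.naturality a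
  have h2 := (HomotopyCategory.homologyFunctorFactors (ModuleCat.{u} A) (ComplexShape.up ℤ) i).inv.naturality (mappingCone.map φ φ' a b comm)
  exact comp_square _ _ _ _ _ _ _ _ _ _ h1 h2 h0

end Cone

/-! ### Elementwise forms -/

section Element

variable (f : A) (K : CochainComplex (ModuleCat.{u} A) ℤ)

lemma coneι_eq_zero_iff (i : ℤ) (x : K.homology i) :
    coneι (mulBy f K) i x = 0 ↔ ∃ y : K.homology i, f • y = x := by
  have h := (ShortComplex.moduleCat_exact_iff _).1 (exact_map_coneι (mulBy f K) i)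
  constructor
  · intro hx
    obtain ⟨y, hy⟩ := h x hx
    exact ⟨y, (by rw [← hy]; simp [homologyMap_mulBy])⟩
  · rintro ⟨y, rfl⟩
    have := ConcreteCategory.congr_hom (map_comp_coneι (mulBy f K) i) y
    simpa [homologyMap_mulBy] using this

lemma coneδ_eq_zero_iff (i j : ℤ) (h : i + 1 = j) (x : (mappingCone (mulBy f K)).homology i) :
    coneδ (mulBy f K) i j h x = 0 ↔ ∃ y, coneι (mulBy f K) i y = x := by
  refine ⟨fun hx => (ShortComplex.moduleCat_exact_iff _).1 (exact_coneι_coneδ (mulBy f K) i j h) x hx, ?_⟩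
  rintro ⟨y, rfl⟩
  exact ConcreteCategory.congr_hom (coneι_comp_coneδ (mulBy f K) i j h) y

lemma mem_range_coneδ_iff (i j : ℤ) (h : i + 1 = j) (y : K.homology j) :
    (∃ x, coneδ (mulBy f K) i j h x = y) ↔ f • y = 0 := by
  constructor
  · rintro ⟨x, rfl⟩
    have := ConcreteCategory.congr_hom (coneδ_comp_map (mulBy f K) i j h) x
    simpa [homologyMap_mulBy] using this
  · intro hy
    exact (ShortComplex.moduleCat_exact_iff _).1 (exact_coneδ_map (mulBy f K) i j h) y
      (by simp [homologyMap_mulBy, hy])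

lemma isZero_cone_homology (i : ℤ) (hs : ∀ x : K.homology i, ∃ y, f • y = x)
    (hi : ∀ y : K.homology (i + 1), f • y = 0 → y = 0) :
    IsZero ((mappingCone (mulBy f K)).homology i) := by
  haveI : Subsingleton ((mappingCone (mulBy f K)).homology i) := by
    refine subsingleton_of_forall_eq 0 fun x => ?_
    obtain ⟨y, rfl⟩ := (coneδ_eq_zero_iff f K i _ rfl x).1 (hi _ ((mem_range_coneδ_iff f K i _ rfl _).1 ⟨x, rfl⟩))
    exact (coneι_eq_zero_iff f K i y).2 (hs y)
  exact ModuleCat.isZero_of_subsingleton _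

end Element

/-! ### Degrees -/

lemma isZero_koszulCx_X (M : ModuleCat.{u} A) : ∀ (fs : List A) (i : ℤ), (0 < i ∨ i < -(fs.length : ℤ)) →
    IsZero ((CohIII.koszulCx M fs).X i)
  | [], i, hi => HomologicalComplex.isZero_single_obj_X _ _ _ _ (by simp at hi; lia)
  | f :: fs, i, hi => by
    refine (mappingCone.isZero_X_iff _ i).2 ⟨isZero_koszulCx_X M fs (i + 1) ?_, isZero_koszulCx_X M fs i ?_⟩ <;>
      simp at hi <;> lia

lemma isZero_koszulCx_homology (M : ModuleCat.{u} A) (fs : List A) (i : ℤ) (hi : 0 < i ∨ i < -(fs.length : ℤ)) :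
    IsZero ((CohIII.koszulCx M fs).homology i) := by
  refine (HomologicalComplex.exactAt_iff_isZero_homology _ _).1 ?_
  rw [HomologicalComplex.exactAt_iff]
  exact ShortComplex.exact_of_isZero_X₂ _ (isZero_koszulCx_X M fs i hi)

lemma koszulH_eq_zero_of_lt (M : ModuleCat.{u} A) (fs : List A) (i : ℤ) (hi : 0 < i ∨ i < -(fs.length : ℤ))
    (x : (CohIII.koszulCx M fs).homology i) : x = 0 := by
  haveI := ModuleCat.subsingleton_of_isZero (isZero_koszulCx_homology M fs i hi)
  exact Subsingleton.elim _ _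

end Groth.Agent.KoszulCone
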