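import Groth.Agent.KoszulCone.Functor
import Groth.Agent.DepthLib.Basic

/-!
Koszul cohomology and depth.
-/

set_option autoImplicit false
universe u

open CategoryTheory CategoryTheory.Limits CochainComplex RingTheory.Sequence
open scoped Pointwise

namespace Groth.Agent.KoszulCone

variable {R : Type u} [CommRing R]

lemma homologyMap_f_eq_zero (M : ModuleCat.{u} R) {g : R} {xs : List R} (hg : g ∈ Ideal.span {x | x ∈ xs}) (i : ℤ)
    (x : (CohIII.koszulCx M xs).homology i) :
    HomologicalComplex.homologyMap (koszulShortComplex (regularSC M g) xs).f i x = 0 :=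
  (smul_koszul_f M g xs i x).trans (smul_koszulH_eq_zero M xs hg x)

/-- Vanishing below the length of a regular sequence in the ideal. -/
theorem koszul_eq_zero_of_regular (xs : List R) : ∀ (rs : List R) (M : ModuleCat.{u} R), IsWeaklyRegular M rs →
    (∀ r ∈ rs, r ∈ Ideal.span {x | x ∈ xs}) → ∀ i : ℤ, i < (rs.length : ℤ) - xs.length →
      ∀ x : (CohIII.koszulCx M xs).homology i, x = 0
  | [], M, _, _, i, hi, x => koszulH_eq_zero_of_lt M xs i (Or.inr (by simp at hi; lia)) x
  | g :: rs, M, h, hmem, i, hi, x => by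
    rw [isWeaklyRegular_cons_iff] at h
    have hS := koszulShortComplex_shortExact (regularSC_shortExact (M := M) h.1) xs
    obtain ⟨z, hz⟩ := (ShortComplex.moduleCat_exact_iff _).1 (hS.homology_exact₁ (i - 1) i (by simp)) x
      (homologyMap_f_eq_zero M (hmem g List.mem_cons_self) i x)
    rw [show z = 0 from koszul_eq_zero_of_regular xs rs (ModuleCat.of R (QuotSMulTop g M)) h.2
      (fun r hr => hmem r (List.mem_cons_of_mem _ hr)) (i - 1) (by simp at hi; lia) z] at hz
    exact hz.symm.trans (map_zero _)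

theorem exists_ne_zero_of_idealDepth_eq [IsNoetherianRing R] (xs : List R) : ∀ (r : ℕ) (M : ModuleCat.{u} R),
    Module.Finite R M → LocCoh.idealDepth (Ideal.span {x | x ∈ xs}) M = r →
      ∃ x : (CohIII.koszulCx M xs).homology ((r : ℤ) - xs.length), x ≠ 0
  | 0, M, hf, h => by
    obtain ⟨e, he, hr⟩ := exists_bottom_map M xs
    obtain ⟨p, hp, hle⟩ := DepthLib.idealDepth_eq_zero_iff.1 (by simpa using h)
    obtain ⟨hprime, m, rfl⟩ := isAssociatedPrime_iff.1 hp
    have hm : ∀ a ∈ xs, a • m = 0 := fun a ha =>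
      (Submodule.mem_bot R).1 (Submodule.mem_colon_singleton.1 (hle (Ideal.subset_span ha)))
    obtain ⟨x, hx⟩ := (hr m).2 hm
    have hm0 : m ≠ 0 := fun h0 => hprime.ne_top (by rw [h0, Submodule.colon_singleton_zero])
    have hne : x ≠ 0 := fun h0 => hm0 (by rw [← hx, h0, map_zero])
    rw [show ((0 : ℕ) : ℤ) - (xs.length : ℤ) = -(xs.length : ℤ) by simp]
    exact ⟨x, hne⟩
  | r + 1, M, hf, h => by
    set I := Ideal.span {x | x ∈ xs}
    have htop : I • (⊤ : Submodule R M) ≠ ⊤ := fun htop => by
      rw [DepthLib.idealDepth_of_smul_top_eq htop] at h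
      exact ENat.top_ne_coe _ h
    obtain ⟨rs, hlen, hreg, hmem⟩ := DepthLib.exists_isWeaklyRegular_of_natCast_le_idealDepth htop (r + 1) (h.ge)
    obtain ⟨g, rs', rfl⟩ := List.exists_cons_of_length_pos (by omega : 0 < rs.length)
    have hg : g ∈ I := hmem g List.mem_cons_self
    rw [isWeaklyRegular_cons_iff] at hreg
    have hS := koszulShortComplex_shortExact (regularSC_shortExact (M := M) hreg.1) xs
    have hq : LocCoh.idealDepth I (QuotSMulTop g M) = r := by
      refine le_antisymm ?_ ?_
      · have := DepthLib.idealDepth_quotSMulTop_add_one_le hg hreg.1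
        rw [h, Nat.cast_add, Nat.cast_one] at this
        exact (ENat.add_le_add_iff_right ENat.one_ne_top).1 this
      · have := DepthLib.le_idealDepth_of_isWeaklyRegular rs' hreg.2 (fun r hr => hmem r (List.mem_cons_of_mem _ hr))
        simpa [show rs'.length = r by simpa using hlen] using this
    obtain ⟨z, hz⟩ := exists_ne_zero_of_idealDepth_eq xs r (ModuleCat.of R (QuotSMulTop g M)) inferInstance hq
    refine ⟨hS.δ ((r : ℤ) - xs.length) (((r + 1 : ℕ) : ℤ) - xs.length) (by simp; lia) z, fun h0 => hz ?_⟩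
    obtain ⟨w, hw⟩ := (ShortComplex.moduleCat_exact_iff _).1
      (hS.homology_exact₃ ((r : ℤ) - xs.length) (((r + 1 : ℕ) : ℤ) - xs.length) (by simp; lia)) z h0
    rw [show w = 0 from koszul_eq_zero_of_regular xs (g :: rs') M ((isWeaklyRegular_cons_iff _ _ _).2 hreg) hmem _
      (by rw [hlen]; push_cast; lia) w] at hw
    exact hw.symm.trans (map_zero _)

end Groth.Agent.KoszulCone
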