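import Groth.Agent.KoszulCone.Basic
import Mathlib.RingTheory.Regular.RegularSequence

/-!
The Koszul complex as a functor of the module; short exact sequences; weakly regular sequences; the homology
in the two extreme degrees.
-/

set_option autoImplicit false
universe u

open CategoryTheory CategoryTheory.Limits CochainComplex CochainComplex.HomComplex RingTheory.Sequence
open scoped Pointwise

namespace Groth.Agent.KoszulCone

variable {A : Type u} [CommRing A]

section ConeMap

variable {F G F' G' : CochainComplex (ModuleCat.{u} A) ℤ} (φ : F ⟶ G) (φ' : F' ⟶ G') (a : F ⟶ F') (b : G ⟶ G')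
  (comm : φ ≫ b = a ≫ φ') (n : ℤ)

lemma map_fst : (mappingCone.map φ φ' a b comm).f n ≫ (mappingCone.fst φ').1.v n (n + 1) rfl =
    (mappingCone.fst φ).1.v n (n + 1) rfl ≫ a.f (n + 1) := by
  apply mappingCone.ext_from _ (n + 1) n rfl <;> simp [mappingCone.map]

lemma map_snd : (mappingCone.map φ φ' a b comm).f n ≫ (mappingCone.snd φ').v n n (add_zero n) =
    (mappingCone.snd φ).v n n (add_zero n) ≫ b.f n := by
  apply mappingCone.ext_from _ (n + 1) n rfl <;> simp [mappingCone.map]

lemma inl_map : (mappingCone.inl φ).v (n + 1) n (by lia) ≫ (mappingCone.map φ φ' a b comm).f n =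
    a.f (n + 1) ≫ (mappingCone.inl φ').v (n + 1) n (by lia) := by
  simp [mappingCone.map]

lemma inr_map : (mappingCone.inr φ).f n ≫ (mappingCone.map φ φ' a b comm).f n =
    b.f n ≫ (mappingCone.inr φ').f n := by
  simp [mappingCone.map]

lemma map_smul_smul (c : A) (comm' : φ ≫ (c • b) = (c • a) ≫ φ') :
    mappingCone.map φ φ' (c • a) (c • b) comm' = c • mappingCone.map φ φ' a b comm := by
  ext n : 1
  rw [HomologicalComplex.smul_f_apply]
  apply mappingCone.ext_from _ (n + 1) n rfl <;> simp [mappingCone.map, Linear.comp_smul, Linear.smul_comp]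

lemma cone_ext {x : (mappingCone φ).X n} (h1 : (mappingCone.fst φ).1.v n (n + 1) rfl x = 0)
    (h2 : (mappingCone.snd φ).v n n (add_zero n) x = 0) : x = 0 := by
  have e := ConcreteCategory.congr_hom (mappingCone.id_X φ n (n + 1) rfl) x
  simp only [ModuleCat.hom_add, LinearMap.add_apply, ModuleCat.hom_comp, LinearMap.comp_apply, h1, h2, map_zero,
    add_zero] at e
  exact e.symm

lemma fst_inl_apply (y : F.X (n + 1)) (z : G.X n) :
    (mappingCone.fst φ).1.v n (n + 1) rfl
      ((mappingCone.inl φ).v (n + 1) n (by lia) y + (mappingCone.inr φ).f n z) = y := by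
  have e1 := ConcreteCategory.congr_hom (mappingCone.inl_v_fst_v φ (n + 1) n rfl) y
  have e2 := ConcreteCategory.congr_hom (mappingCone.inr_f_fst_v φ n (n + 1) rfl) z
  simp only [ModuleCat.hom_comp, LinearMap.comp_apply] at e1 e2
  rw [map_add, e1, e2]
  simp

lemma snd_inl_apply (y : F.X (n + 1)) (z : G.X n) :
    (mappingCone.snd φ).v n n (add_zero n)
      ((mappingCone.inl φ).v (n + 1) n (by lia) y + (mappingCone.inr φ).f n z) = z := by
  have e1 := ConcreteCategory.congr_hom (mappingCone.inl_v_snd_v φ (n + 1) n (by lia)) y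
  have e2 := ConcreteCategory.congr_hom (mappingCone.inr_f_snd_v φ n) z
  simp only [ModuleCat.hom_comp, LinearMap.comp_apply] at e1 e2
  rw [map_add, e1, e2]
  simp

end ConeMap

/-- The short complex of cones of a map of short complexes. -/
noncomputable def coneShortComplex {S T : ShortComplex (CochainComplex (ModuleCat.{u} A) ℤ)} (φ : S ⟶ T) :
    ShortComplex (CochainComplex (ModuleCat.{u} A) ℤ) :=
  ShortComplex.mk (mappingCone.map φ.τ₁ φ.τ₂ S.f T.f φ.comm₁₂) (mappingCone.map φ.τ₂ φ.τ₃ S.g T.g φ.comm₂₃) (by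
    ext n : 1
    apply mappingCone.ext_from _ (n + 1) n rfl <;>
      simp [mappingCone.map, ← HomologicalComplex.comp_f_assoc, S.zero, T.zero])

lemma coneShortComplex_shortExact {S T : ShortComplex (CochainComplex (ModuleCat.{u} A) ℤ)} (φ : S ⟶ T)
    (hS : S.ShortExact) (hT : T.ShortExact) : (coneShortComplex φ).ShortExact := by
  refine HomologicalComplex.shortExact_of_degreewise_shortExact _ fun n => ?_
  have hs := hS.map_of_exact (HomologicalComplex.eval (ModuleCat.{u} A) (ComplexShape.up ℤ) (n + 1))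
  have ht := hT.map_of_exact (HomologicalComplex.eval (ModuleCat.{u} A) (ComplexShape.up ℤ) n)
  have iS : Function.Injective (S.f.f (n + 1)) := (ModuleCat.mono_iff_injective _).1 hs.mono_f
  have iT : Function.Injective (T.f.f n) := (ModuleCat.mono_iff_injective _).1 ht.mono_f
  have sS : Function.Surjective (S.g.f (n + 1)) := (ModuleCat.epi_iff_surjective _).1 hs.epi_g
  have sT : Function.Surjective (T.g.f n) := (ModuleCat.epi_iff_surjective _).1 ht.epi_g
  have xS := (ShortComplex.moduleCat_exact_iff _).1 hs.exact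
  have xT := (ShortComplex.moduleCat_exact_iff _).1 ht.exact
  have hinj : Function.Injective ((coneShortComplex φ).f.f n) := by
    refine (injective_iff_map_eq_zero _).2 fun x hx => ?_
    refine cone_ext φ.τ₁ n (iS ?_) (iT ?_)
    · exact ((ConcreteCategory.congr_hom (map_fst φ.τ₁ φ.τ₂ S.f T.f φ.comm₁₂ n) x).symm.trans
        ((congrArg ((mappingCone.fst φ.τ₂).1.v n (n + 1) rfl) hx).trans (map_zero _))).trans (map_zero _).symm
    · exact ((ConcreteCategory.congr_hom (map_snd φ.τ₁ φ.τ₂ S.f T.f φ.comm₁₂ n) x).symm.trans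
        ((congrArg ((mappingCone.snd φ.τ₂).v n n (add_zero n)) hx).trans (map_zero _))).trans (map_zero _).symm
  have hsurj : Function.Surjective ((coneShortComplex φ).g.f n) := by
    intro y
    obtain ⟨a, ha⟩ := sS ((mappingCone.fst φ.τ₃).1.v n (n + 1) rfl y)
    obtain ⟨b, hb⟩ := sT ((mappingCone.snd φ.τ₃).v n n (add_zero n) y)
    refine ⟨(mappingCone.inl φ.τ₂).v (n + 1) n (by lia) a + (mappingCone.inr φ.τ₂).f n b, ?_⟩
    refine sub_eq_zero.1 (cone_ext φ.τ₃ n ?_ ?_)
    · refine (map_sub _ _ _).trans (sub_eq_zero.2 ?_)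
      refine Eq.trans ?_ ha
      refine (ConcreteCategory.congr_hom (map_fst φ.τ₂ φ.τ₃ S.g T.g φ.comm₂₃ n) _).trans ?_
      exact congrArg (S.g.f (n + 1)) (fst_inl_apply φ.τ₂ n a b)
    · refine (map_sub _ _ _).trans (sub_eq_zero.2 ?_)
      refine Eq.trans ?_ hb
      refine (ConcreteCategory.congr_hom (map_snd φ.τ₂ φ.τ₃ S.g T.g φ.comm₂₃ n) _).trans ?_
      exact congrArg (T.g.f n) (snd_inl_apply φ.τ₂ n a b)
  refine { exact := (ShortComplex.moduleCat_exact_iff _).2 fun x hx => ?_,
           mono_f := (ModuleCat.mono_iff_injective _).2 hinj,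
           epi_g := (ModuleCat.epi_iff_surjective _).2 hsurj }
  obtain ⟨a, ha⟩ := xS ((mappingCone.fst φ.τ₂).1.v n (n + 1) rfl x)
    ((ConcreteCategory.congr_hom (map_fst φ.τ₂ φ.τ₃ S.g T.g φ.comm₂₃ n) x).symm.trans
      ((congrArg ((mappingCone.fst φ.τ₃).1.v n (n + 1) rfl) hx).trans (map_zero _)))
  obtain ⟨b, hb⟩ := xT ((mappingCone.snd φ.τ₂).v n n (add_zero n) x)
    ((ConcreteCategory.congr_hom (map_snd φ.τ₂ φ.τ₃ S.g T.g φ.comm₂₃ n) x).symm.trans
      ((congrArg ((mappingCone.snd φ.τ₃).v n n (add_zero n)) hx).trans (map_zero _)))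
  refine ⟨(mappingCone.inl φ.τ₁).v (n + 1) n (by lia) a + (mappingCone.inr φ.τ₁).f n b, ?_⟩
  refine sub_eq_zero.1 (cone_ext φ.τ₂ n ?_ ?_)
  · refine (map_sub _ _ _).trans (sub_eq_zero.2 ?_)
    refine (ConcreteCategory.congr_hom (map_fst φ.τ₁ φ.τ₂ S.f T.f φ.comm₁₂ n) _).trans ?_
    exact (congrArg (S.f.f (n + 1)) (fst_inl_apply φ.τ₁ n a b)).trans ha
  · refine (map_sub _ _ _).trans (sub_eq_zero.2 ?_)
    refine (ConcreteCategory.congr_hom (map_snd φ.τ₁ φ.τ₂ S.f T.f φ.comm₁₂ n) _).trans ?_
    exact (congrArg (T.f.f n) (snd_inl_apply φ.τ₁ n a b)).trans hb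

/-- The Koszul complex of a linear map. -/
noncomputable def koszulMap {M N : ModuleCat.{u} A} (φ : M ⟶ N) :
    ∀ fs : List A, CohIII.koszulCx M fs ⟶ CohIII.koszulCx N fs
  | [] => (HomologicalComplex.single (ModuleCat.{u} A) (ComplexShape.up ℤ) 0).map φ
  | f :: fs => mappingCone.map (mulBy f _) (mulBy f _) (koszulMap φ fs) (koszulMap φ fs) (by simp [mulBy])

lemma koszulMap_id (M : ModuleCat.{u} A) : ∀ fs : List A, koszulMap (𝟙 M) fs = 𝟙 _
  | [] => (HomologicalComplex.single (ModuleCat.{u} A) (ComplexShape.up ℤ) 0).map_id M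
  | f :: fs => by
    ext n : 1
    simp [koszulMap, koszulMap_id M fs, mappingCone.map_id]
    rfl

lemma koszulMap_comp {M N P : ModuleCat.{u} A} (φ : M ⟶ N) (ψ : N ⟶ P) :
    ∀ fs : List A, koszulMap (φ ≫ ψ) fs = koszulMap φ fs ≫ koszulMap ψ fs
  | [] => (HomologicalComplex.single (ModuleCat.{u} A) (ComplexShape.up ℤ) 0).map_comp φ ψ
  | f :: fs => by
    simp only [koszulMap, koszulMap_comp φ ψ fs]
    exact mappingCone.map_comp _ _ _ _ _ (by simp [mulBy]) _ _ (by simp [mulBy])

lemma koszulMap_zero (M N : ModuleCat.{u} A) : ∀ fs : List A, koszulMap (0 : M ⟶ N) fs = 0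
  | [] => Functor.map_zero _ M N
  | f :: fs => by
    simp only [koszulMap, koszulMap_zero M N fs]
    ext n : 1
    refine mappingCone.ext_from _ (n + 1) n rfl ?_ ?_
    · exact (inl_map _ _ _ _ _ n).trans (Eq.trans (by simp) comp_zero.symm)
    · exact (inr_map _ _ _ _ _ n).trans (Eq.trans (by simp) comp_zero.symm)

lemma koszulMap_smul {M N : ModuleCat.{u} A} (φ : M ⟶ N) (c : A) :
    ∀ fs : List A, koszulMap (c • φ) fs = c • koszulMap φ fs
  | [] => by
    ext n : 1
    by_cases h : n = 0
    · subst h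
      change ((HomologicalComplex.single (ModuleCat.{u} A) (ComplexShape.up ℤ) 0).map (c • φ)).f 0 =
        c • ((HomologicalComplex.single (ModuleCat.{u} A) (ComplexShape.up ℤ) 0).map φ).f 0
      rw [HomologicalComplex.single_map_f_self, HomologicalComplex.single_map_f_self, Linear.smul_comp,
        Linear.comp_smul]
    · exact (HomologicalComplex.isZero_single_obj_X _ _ _ _ h).eq_of_src _ _
  | f :: fs => by
    simp only [koszulMap, koszulMap_smul φ c fs]
    exact map_smul_smul _ _ _ _ (by simp [mulBy]) c _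

lemma koszulMap_mul_id (M : ModuleCat.{u} A) (c : A) (fs : List A) :
    koszulMap (c • 𝟙 M) fs = mulBy c (CohIII.koszulCx M fs) := by
  rw [koszulMap_smul, koszulMap_id]

/-- The Koszul complexes of a short complex of modules. -/
noncomputable def koszulShortComplex (S : ShortComplex (ModuleCat.{u} A)) (fs : List A) :
    ShortComplex (CochainComplex (ModuleCat.{u} A) ℤ) :=
  ShortComplex.mk (koszulMap S.f fs) (koszulMap S.g fs)
    (by rw [← koszulMap_comp, S.zero, koszulMap_zero])

lemma koszulShortComplex_shortExact {S : ShortComplex (ModuleCat.{u} A)} (hS : S.ShortExact) :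
    ∀ fs : List A, (koszulShortComplex S fs).ShortExact
  | [] => hS.map_of_exact (HomologicalComplex.single (ModuleCat.{u} A) (ComplexShape.up ℤ) 0)
  | f :: fs =>
    coneShortComplex_shortExact (S := koszulShortComplex S fs) (T := koszulShortComplex S fs)
      (f • 𝟙 (koszulShortComplex S fs)) (koszulShortComplex_shortExact hS fs) (koszulShortComplex_shortExact hS fs)

/-- Multiplication by a regular element, as a short exact sequence. -/
noncomputable def regularSC (M : ModuleCat.{u} A) (g : A) : ShortComplex (ModuleCat.{u} A) :=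
  ShortComplex.mk (g • 𝟙 M) (ModuleCat.ofHom (Submodule.mkQ (g • (⊤ : Submodule A M))) :
      M ⟶ ModuleCat.of A (QuotSMulTop g M)) <| ModuleCat.hom_ext <| LinearMap.ext fun x =>
    (Submodule.Quotient.mk_eq_zero _).2 (Submodule.smul_mem_pointwise_smul x g ⊤ trivial)

lemma regularSC_shortExact {M : ModuleCat.{u} A} {g : A} (hg : IsSMulRegular M g) :
    (regularSC M g).ShortExact := by
  refine { exact := ?_, mono_f := (ModuleCat.mono_iff_injective _).2 hg,
           epi_g := (ModuleCat.epi_iff_surjective _).2 (Submodule.mkQ_surjective _) }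
  refine (ShortComplex.moduleCat_exact_iff _).2 fun x hx => ?_
  obtain ⟨y, -, hy⟩ := (Submodule.mem_smul_pointwise_iff_exists _ _ _).1 ((Submodule.Quotient.mk_eq_zero _).1 hx)
  exact ⟨y, hy⟩

lemma smul_koszul_f (M : ModuleCat.{u} A) (g : A) (fs : List A) (i : ℤ) (x : (CohIII.koszulCx M fs).homology i) :
    HomologicalComplex.homologyMap (koszulShortComplex (regularSC M g) fs).f i x = g • x := by
  change HomologicalComplex.homologyMap (koszulMap (g • 𝟙 M) fs) i x = _
  rw [koszulMap_mul_id, homologyMap_mulBy]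
  rfl

/-- A weakly regular sequence has Koszul cohomology in the top degree only. -/
theorem isZero_of_isWeaklyRegular : ∀ (fs : List A) (M : ModuleCat.{u} A), IsWeaklyRegular M fs →
    ∀ i : ℤ, i ≠ 0 → IsZero ((CohIII.koszulCx M fs).homology i)
  | [], M, _, i, hi => isZero_koszulCx_homology M [] i (by simp; lia)
  | f :: fs, M, h, i, hi => by
    rw [isWeaklyRegular_cons_iff] at h
    by_cases hi' : 0 < i
    · exact isZero_koszulCx_homology M _ i (Or.inl hi')
    have hS := koszulShortComplex_shortExact (regularSC_shortExact (M := M) h.1) fs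
    refine isZero_cone_homology f _ i (fun x => ?_) (fun y hy => ?_)
    · obtain ⟨y, hy⟩ := (ShortComplex.moduleCat_exact_iff _).1 (hS.homology_exact₂ i) x
        ((ModuleCat.subsingleton_of_isZero
          (isZero_of_isWeaklyRegular fs (ModuleCat.of A (QuotSMulTop f M)) h.2 i hi)).elim _ _)
      exact ⟨y, (smul_koszul_f M f fs i y).symm.trans hy⟩
    · obtain ⟨z, hz⟩ := (ShortComplex.moduleCat_exact_iff _).1 (hS.homology_exact₁ i (i + 1) rfl) y
        ((smul_koszul_f M f fs (i + 1) y).trans hy)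
      refine hz.symm.trans ?_
      rw [show z = 0 from ((ModuleCat.subsingleton_of_isZero
        (isZero_of_isWeaklyRegular fs (ModuleCat.of A (QuotSMulTop f M)) h.2 i hi)).elim _ _)]
      exact map_zero _

/-- The top homology is `M/(fs)M`. -/
theorem exists_top_map (M : ModuleCat.{u} A) : ∀ fs : List A,
    ∃ π : M →ₗ[A] (CohIII.koszulCx M fs).homology 0, Function.Surjective π ∧
      ∀ x, π x = 0 ↔ x ∈ Ideal.ofList fs • (⊤ : Submodule A M)
  | [] => by
    let e := (HomologicalComplex.singleObjHomologySelfIso (ComplexShape.up ℤ) 0 M).symm.toLinearEquiv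
    refine ⟨e.toLinearMap, e.surjective, fun x => ?_⟩
    rw [Ideal.ofList_nil, Submodule.bot_smul, Submodule.mem_bot]
    exact e.map_eq_zero_iff
  | f :: fs => by
    obtain ⟨π, hπ, hker⟩ := exists_top_map M fs
    refine ⟨(coneι (mulBy f (CohIII.koszulCx M fs)) 0).hom ∘ₗ π, ?_, fun x => ?_⟩
    · intro y
      obtain ⟨z, rfl⟩ := (coneδ_eq_zero_iff f (CohIII.koszulCx M fs) 0 _ rfl y).1
        (koszulH_eq_zero_of_lt M fs _ (Or.inl (by omega)) _)
      obtain ⟨x, rfl⟩ := hπ z
      exact ⟨x, rfl⟩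
    · rw [Ideal.ofList_cons, Submodule.sup_smul, Submodule.ideal_span_singleton_smul, Submodule.mem_sup]
      refine (coneι_eq_zero_iff f (CohIII.koszulCx M fs) 0 (π x)).trans ⟨?_, ?_⟩
      · rintro ⟨y, hy⟩
        obtain ⟨m, rfl⟩ := hπ y
        exact ⟨f • m, Submodule.smul_mem_pointwise_smul m f ⊤ trivial, x - f • m,
          (hker _).1 (by rw [map_sub, map_smul, hy, sub_self]), add_sub_cancel _ _⟩
      · rintro ⟨a, ha, b, hb, rfl⟩
        obtain ⟨m, -, rfl⟩ := (Submodule.mem_smul_pointwise_iff_exists _ _ _).1 ha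
        exact ⟨π m, by rw [map_add, map_smul, (hker b).2 hb, add_zero]⟩

/-- The bottom homology consists of the elements killed by the sequence. -/
theorem exists_bottom_map (M : ModuleCat.{u} A) : ∀ fs : List A,
    ∃ e : (CohIII.koszulCx M fs).homology (-(fs.length : ℤ)) →ₗ[A] M, Function.Injective e ∧
      ∀ m, (∃ x, e x = m) ↔ ∀ a ∈ fs, a • m = 0
  | [] => by
    let e := (HomologicalComplex.singleObjHomologySelfIso (ComplexShape.up ℤ) 0 M).toLinearEquiv
    exact ⟨e.toLinearMap, e.injective, fun m => ⟨fun _ a ha => absurd ha (by simp), fun _ => e.surjective m⟩⟩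
  | f :: fs => by
    obtain ⟨e, he, hr⟩ := exists_bottom_map M fs
    have hdeg : -((f :: fs).length : ℤ) + 1 = -(fs.length : ℤ) := by simp
    refine ⟨e ∘ₗ (coneδ (mulBy f (CohIII.koszulCx M fs)) _ _ hdeg).hom, ?_, fun m => ?_⟩
    · refine (injective_iff_map_eq_zero _).2 fun x hx => ?_
      obtain ⟨y, rfl⟩ := (coneδ_eq_zero_iff f (CohIII.koszulCx M fs) _ _ hdeg x).1
        (he (hx.trans (map_zero e).symm))
      rw [koszulH_eq_zero_of_lt M fs _ (Or.inr (by simp)) y]
      exact map_zero _
    · constructor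
      · rintro ⟨x, rfl⟩ a ha
        rcases List.mem_cons.1 ha with rfl | ha
        · have h1 := (mem_range_coneδ_iff a (CohIII.koszulCx M fs) _ _ hdeg _).1 ⟨x, rfl⟩
          exact (map_smul e a _).symm.trans ((congrArg e h1).trans (map_zero e))
        · exact (hr _).1 ⟨_, rfl⟩ a ha
      · intro hm
        obtain ⟨y, rfl⟩ := (hr m).2 fun a ha => hm a (List.mem_cons_of_mem _ ha)
        obtain ⟨x, hx⟩ := (mem_range_coneδ_iff f (CohIII.koszulCx M fs) _ _ hdeg y).2
          (he ((map_smul e f y).trans ((hm f List.mem_cons_self).trans (map_zero e).symm)))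
        exact ⟨x, congrArg e hx⟩

end Groth.Agent.KoszulCone
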