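import Groth.Agent.KoszulCone.Lim

/-!
The top degree of the Koszul complex of the powers, with the transition maps.
-/

set_option autoImplicit false
universe u

open CategoryTheory CategoryTheory.Limits CochainComplex
open scoped Pointwise

namespace Groth.Agent.KoszulCone

variable {A : Type u} [CommRing A]

/-- The map to the top homology. -/
noncomputable def topMap (M : ModuleCat.{u} A) : ∀ fs : List A, M ⟶ (CohIII.koszulCx M fs).homology 0
  | [] => (HomologicalComplex.singleObjHomologySelfIso (ComplexShape.up ℤ) 0 M).inv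
  | f :: fs => topMap M fs ≫ coneι (mulBy f (CohIII.koszulCx M fs)) 0

lemma topMap_spec (M : ModuleCat.{u} A) : ∀ fs : List A, Function.Surjective (topMap M fs) ∧
    ∀ x, topMap M fs x = 0 ↔ x ∈ Ideal.ofList fs • (⊤ : Submodule A M)
  | [] => by
    let e := (HomologicalComplex.singleObjHomologySelfIso (ComplexShape.up ℤ) 0 M).symm.toLinearEquiv
    refine ⟨e.surjective, fun x => ?_⟩
    rw [Ideal.ofList_nil, Submodule.bot_smul, Submodule.mem_bot]
    exact e.map_eq_zero_iff
  | f :: fs => by
    obtain ⟨hπ, hker⟩ := topMap_spec M fs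
    refine ⟨fun y => ?_, fun x => ?_⟩
    · obtain ⟨z, rfl⟩ := (coneδ_eq_zero_iff f (CohIII.koszulCx M fs) 0 _ rfl y).1
        (koszulH_eq_zero_of_lt M fs _ (Or.inl (by omega)) _)
      obtain ⟨x, rfl⟩ := hπ z
      exact ⟨x, rfl⟩
    · rw [Ideal.ofList_cons, Submodule.sup_smul, Submodule.ideal_span_singleton_smul, Submodule.mem_sup]
      refine (coneι_eq_zero_iff f (CohIII.koszulCx M fs) 0 (topMap M fs x)).trans ⟨?_, ?_⟩
      · rintro ⟨y, hy⟩
        obtain ⟨m, rfl⟩ := hπ y
        refine ⟨f • m, Submodule.smul_mem_pointwise_smul m f ⊤ trivial, x - f • m, (hker _).1 ?_,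
          add_sub_cancel _ _⟩
        rw [map_sub, map_smul]
        exact sub_eq_zero.2 hy.symm
      · rintro ⟨a, ha, b, hb, rfl⟩
        obtain ⟨m, -, rfl⟩ := (Submodule.mem_smul_pointwise_iff_exists _ _ _).1 ha
        exact ⟨topMap M fs m, by rw [map_add, map_smul, (hker b).2 hb, add_zero]⟩

lemma transH_topMap (M : ModuleCat.{u} A) {n m : ℕ} (h : n ≤ m) : ∀ (fs : List A) (x : M),
    transH M fs h 0 (topMap M (fs.map (· ^ n)) x) =
      topMap M (fs.map (· ^ m)) ((fs.map (· ^ (m - n))).prod • x)
  | [], x => by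
    simp only [transH, CohIII.koszulTrans, HomologicalComplex.homologyMap_id, List.map_nil, List.prod_nil,
      one_smul]
    rfl
  | f :: fs, x => by
    have e := transH_topMap M h fs x
    have c := ConcreteCategory.congr_hom (coneι_naturality (mulBy (f ^ n) (powCx M fs n))
      (mulBy (f ^ m) (powCx M fs m)) (CohIII.koszulTrans M n m h fs) (f ^ (m - n) • CohIII.koszulTrans M n m h fs)
      (by simp only [mulBy, Linear.smul_comp, Linear.comp_smul, Category.id_comp, Category.comp_id, smul_smul,
        ← pow_add, Nat.sub_add_cancel h]) 0) (topMap M (fs.map (· ^ n)) x)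
    refine c.trans ?_
    change coneι (mulBy (f ^ m) (powCx M fs m)) 0
      (HomologicalComplex.homologyMap (f ^ (m - n) • CohIII.koszulTrans M n m h fs) 0
        (topMap M (fs.map (· ^ n)) x)) = coneι (mulBy (f ^ m) (powCx M fs m)) 0 (topMap M (fs.map (· ^ m))
          (((f :: fs).map (· ^ (m - n))).prod • x))
    refine congrArg (coneι (mulBy (f ^ m) (powCx M fs m)) 0) ?_
    rw [homologyMap_smul, List.map_cons, List.prod_cons, mul_smul, map_smul, ← e]
    rfl

end Groth.Agent.KoszulCone
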