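import Groth.Agent.KoszulCone.Functor
import Mathlib.Algebra.Module.Injective
import Mathlib.Algebra.Colimit.Module
import Mathlib.Algebra.Homology.HomologySequenceLemmas

/-!
Koszul complexes of powers: transition maps, their bottom degree, and effaceability on injective modules.
-/

set_option autoImplicit false
universe u

open CategoryTheory CategoryTheory.Limits CochainComplex CochainComplex.HomComplex

namespace Groth.Agent.KoszulCone

variable {A : Type u} [CommRing A]

lemma homologyMap_smul {K L : CochainComplex (ModuleCat.{u} A) ℤ} (c : A) (g : K ⟶ L) (i : ℤ) :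
    HomologicalComplex.homologyMap (c • g) i = c • HomologicalComplex.homologyMap g i := by
  rw [show c • g = mulBy c K ≫ g by simp [mulBy], HomologicalComplex.homologyMap_comp, homologyMap_mulBy]
  simp

/-- `K(fs^n; M)`. -/
noncomputable abbrev powCx (M : ModuleCat.{u} A) (fs : List A) (n : ℕ) : CochainComplex (ModuleCat.{u} A) ℤ :=
  CohIII.koszulCx M (fs.map (· ^ n))

/-- The transition map on homology. -/
noncomputable abbrev transH (M : ModuleCat.{u} A) (fs : List A) {n m : ℕ} (h : n ≤ m) (i : ℤ) :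
    (powCx M fs n).homology i →ₗ[A] (powCx M fs m).homology i :=
  (HomologicalComplex.homologyMap (CohIII.koszulTrans M n m h fs) i).hom

lemma koszulTrans_refl (M : ModuleCat.{u} A) (n : ℕ) : ∀ fs : List A, CohIII.koszulTrans M n n le_rfl fs = 𝟙 _
  | [] => rfl
  | f :: fs => by
    simp only [CohIII.koszulTrans, koszulTrans_refl M n fs, Nat.sub_self, pow_zero, one_smul]
    exact mappingCone.map_id _

lemma koszulTrans_comp (M : ModuleCat.{u} A) {n m k : ℕ} (h : n ≤ m) (h' : m ≤ k) : ∀ fs : List A,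
    CohIII.koszulTrans M n m h fs ≫ CohIII.koszulTrans M m k h' fs = CohIII.koszulTrans M n k (h.trans h') fs
  | [] => Category.id_comp _
  | f :: fs => by
    have e := koszulTrans_comp M h h' fs
    have e' : (f ^ (m - n) • CohIII.koszulTrans M n m h fs) ≫ (f ^ (k - m) • CohIII.koszulTrans M m k h' fs) =
        f ^ (k - n) • CohIII.koszulTrans M n k (h.trans h') fs := by
      rw [Linear.smul_comp, Linear.comp_smul, smul_smul, e, ← pow_add,
        show m - n + (k - m) = k - n by omega]
    refine (mappingCone.map_comp _ _ _ _ _ _ _ _ _).symm.trans ?_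
    simp only [CohIII.koszulTrans, e, e']

lemma transH_refl (M : ModuleCat.{u} A) (fs : List A) {n : ℕ} (i : ℤ) (x : (powCx M fs n).homology i) :
    transH M fs (le_refl n) i x = x := by
  rw [transH, koszulTrans_refl, HomologicalComplex.homologyMap_id]
  rfl

lemma transH_transH (M : ModuleCat.{u} A) (fs : List A) {n m k : ℕ} (h : n ≤ m) (h' : m ≤ k) (i : ℤ)
    (x : (powCx M fs n).homology i) :
    transH M fs h' i (transH M fs h i x) = transH M fs (h.trans h') i x := by
  rw [transH, transH, transH, ← koszulTrans_comp M h h', HomologicalComplex.homologyMap_comp]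
  rfl

lemma koszulTrans_naturality {M N : ModuleCat.{u} A} (φ : M ⟶ N) {n m : ℕ} (h : n ≤ m) : ∀ fs : List A,
    CohIII.koszulTrans M n m h fs ≫ koszulMap φ (fs.map (· ^ m)) =
      koszulMap φ (fs.map (· ^ n)) ≫ CohIII.koszulTrans N n m h fs
  | [] => (Category.id_comp _).trans (Category.comp_id _).symm
  | f :: fs => by
    have e := koszulTrans_naturality φ h fs
    refine (mappingCone.map_comp _ _ _ _ _ _ _ _ _).symm.trans
      (Eq.trans ?_ (mappingCone.map_comp _ _ _ _ _ _ _ _ _))
    simp only [Linear.smul_comp, Linear.comp_smul, e]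

/-- The bottom homology of the Koszul complex, as a map to the module. -/
noncomputable def bottomMap (M : ModuleCat.{u} A) : ∀ (fs : List A) (i : ℤ), i = -(fs.length : ℤ) →
    ((CohIII.koszulCx M fs).homology i ⟶ M)
  | [], i, hi => eqToHom (by rw [show i = 0 by simpa using hi]; rfl) ≫
      (HomologicalComplex.singleObjHomologySelfIso (ComplexShape.up ℤ) 0 M).hom
  | f :: fs, i, hi => coneδ (mulBy f (CohIII.koszulCx M fs)) i (i + 1) rfl ≫
      bottomMap M fs (i + 1) (by simp at hi; omega)

lemma bottomMap_spec (M : ModuleCat.{u} A) : ∀ (fs : List A) (i : ℤ) (hi : i = -(fs.length : ℤ)),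
    Function.Injective (bottomMap M fs i hi) ∧ ∀ m, (∃ x, bottomMap M fs i hi x = m) ↔ ∀ a ∈ fs, a • m = 0
  | [], i, hi => by
    obtain rfl : i = 0 := by simpa using hi
    let e := (HomologicalComplex.singleObjHomologySelfIso (ComplexShape.up ℤ) 0 M).toLinearEquiv
    exact ⟨e.injective, fun m => ⟨fun _ a ha => absurd ha (by simp), fun _ => e.surjective m⟩⟩
  | f :: fs, i, hi => by
    have hi1 : i + 1 = -(fs.length : ℤ) := by simp at hi; omega
    obtain ⟨he, hr⟩ := bottomMap_spec M fs (i + 1) hi1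
    refine ⟨(injective_iff_map_eq_zero (bottomMap M (f :: fs) i hi).hom).2 fun x hx => ?_, fun m => ⟨?_, ?_⟩⟩
    · obtain ⟨y, rfl⟩ := (coneδ_eq_zero_iff f (CohIII.koszulCx M fs) i _ rfl x).1
        (he (hx.trans (map_zero (bottomMap M fs (i + 1) hi1).hom).symm))
      rw [koszulH_eq_zero_of_lt M fs i (Or.inr (by omega)) y]
      exact map_zero _
    · rintro ⟨x, rfl⟩ a ha
      rcases List.mem_cons.1 ha with rfl | ha
      · have h1 := (mem_range_coneδ_iff a (CohIII.koszulCx M fs) i _ rfl _).1 ⟨x, rfl⟩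
        exact (map_smul (bottomMap M fs (i + 1) hi1).hom a _).symm.trans
          ((congrArg (bottomMap M fs (i + 1) hi1) h1).trans (map_zero (bottomMap M fs (i + 1) hi1).hom))
      · exact (hr _).1 ⟨_, rfl⟩ a ha
    · intro hm
      obtain ⟨y, rfl⟩ := (hr m).2 fun a ha => hm a (List.mem_cons_of_mem _ ha)
      obtain ⟨x, hx⟩ := (mem_range_coneδ_iff f (CohIII.koszulCx M fs) i _ rfl y).2
        (he ((map_smul (bottomMap M fs (i + 1) hi1).hom f y).trans
          ((hm f List.mem_cons_self).trans (map_zero (bottomMap M fs (i + 1) hi1).hom).symm)))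
      exact ⟨x, congrArg (bottomMap M fs (i + 1) hi1) hx⟩

private lemma sq {C : Type*} [Category C] {X Y Z W X' Y' : C} (a : X ⟶ X') (d' : X' ⟶ Y') (b' : Y' ⟶ W)
    (d : X ⟶ Y) (a' : Y ⟶ Y') (b : Y ⟶ Z) (φ : Z ⟶ W) (c : d ≫ a' = a ≫ d') (e : a' ≫ b' = b ≫ φ) :
    a ≫ d' ≫ b' = (d ≫ b) ≫ φ := by
  rw [← reassoc_of% c, e, Category.assoc]

lemma bottomMap_naturality {M N : ModuleCat.{u} A} (φ : M ⟶ N) : ∀ (fs : List A) (i : ℤ) (hi : i = -(fs.length : ℤ)),
    HomologicalComplex.homologyMap (koszulMap φ fs) i ≫ bottomMap N fs i hi = bottomMap M fs i hi ≫ φ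
  | [], i, hi => by
    obtain rfl : i = 0 := by simpa using hi
    simp only [bottomMap, eqToHom_refl]
    erw [Category.id_comp, Category.id_comp]
    exact HomologicalComplex.singleObjHomologySelfIso_hom_naturality (ComplexShape.up ℤ) 0 φ
  | f :: fs, i, hi => by
    have e := bottomMap_naturality φ fs (i + 1) (by simp at hi; omega)
    exact sq _ _ _ _ _ _ _ (coneδ_naturality (mulBy f _) (mulBy f _) (koszulMap φ fs) (koszulMap φ fs)
      (by simp [mulBy]) i (i + 1) rfl) e

lemma bottomMap_trans (M : ModuleCat.{u} A) {n m : ℕ} (h : n ≤ m) : ∀ (fs : List A) (i : ℤ)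
    (hi : i = -(fs.length : ℤ)),
    HomologicalComplex.homologyMap (CohIII.koszulTrans M n m h fs) i ≫
      bottomMap M (fs.map (· ^ m)) i (by simpa using hi) = bottomMap M (fs.map (· ^ n)) i (by simpa using hi)
  | [], i, hi => by
    simp only [CohIII.koszulTrans, HomologicalComplex.homologyMap_id, Category.id_comp]
    rfl
  | f :: fs, i, hi => by
    have e := bottomMap_trans M h fs (i + 1) (by simp at hi; omega)
    have c := coneδ_naturality (mulBy (f ^ n) (powCx M fs n)) (mulBy (f ^ m) (powCx M fs m))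
      (CohIII.koszulTrans M n m h fs) (f ^ (m - n) • CohIII.koszulTrans M n m h fs)
      (by simp only [mulBy, Linear.smul_comp, Linear.comp_smul, Category.id_comp, Category.comp_id, smul_smul,
        ← pow_add, Nat.sub_add_cancel h, Nat.add_sub_cancel' h]) i (i + 1) rfl
    refine (Category.assoc _ _ _).symm.trans ?_
    refine (congrArg (· ≫ bottomMap M (fs.map (· ^ m)) (i + 1) (by simp at hi ⊢; omega)) c.symm).trans ?_
    refine (Category.assoc _ _ _).trans ?_
    exact congrArg (coneδ (mulBy (f ^ n) (powCx M fs n)) i (i + 1) rfl ≫ ·) e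

/-- Elements killed by an ideal are eventually divisible in an injective module over a Noetherian ring. -/
lemma exists_smul_eq_of_injective [IsNoetherianRing A] {M : Type u} [AddCommGroup M] [Module A M]
    [Module.Injective A M] (J : Ideal A) (f : A) :
    ∃ c : ℕ, ∀ j : ℕ, ∀ u : M, (∀ a ∈ J, a • u = 0) → ∃ v : M, (∀ a ∈ J, a • v = 0) ∧ f ^ (j + c) • v = f ^ c • u := by
  let chain : ℕ →o Ideal A := ⟨fun k => Submodule.comap (LinearMap.lsmul A A (f ^ k)) J, fun k l hkl x hx => by
    simp only [Submodule.mem_comap, LinearMap.lsmul_apply, smul_eq_mul] at hx ⊢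
    rw [← Nat.sub_add_cancel hkl, pow_add, mul_assoc]
    exact J.mul_mem_left _ hx⟩
  obtain ⟨c, hc⟩ := monotone_stabilizes_iff_noetherian.2 inferInstance chain
  refine ⟨c, fun j u hu => ?_⟩
  let φ : (A ⧸ chain (j + c)) →ₗ[A] (A ⧸ J) :=
    Submodule.mapQ (chain (j + c)) J (LinearMap.lsmul A A (f ^ (j + c))) le_rfl
  have hφ : Function.Injective φ := by
    refine (injective_iff_map_eq_zero φ).2 fun x hx => ?_
    induction x using Submodule.Quotient.induction_on with
    | H a =>
      exact (Submodule.Quotient.mk_eq_zero _).2 ((Submodule.Quotient.mk_eq_zero J).1 hx)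
  let g : (A ⧸ chain (j + c)) →ₗ[A] M := Submodule.liftQ _ (LinearMap.toSpanSingleton A M (f ^ c • u))
    (by
      rw [← hc (j + c) (by omega)]
      intro a ha
      simp only [chain, OrderHom.coe_mk, Submodule.mem_comap, LinearMap.lsmul_apply, smul_eq_mul] at ha
      rw [LinearMap.mem_ker, LinearMap.toSpanSingleton_apply, smul_smul, mul_comm]
      exact hu _ ha)
  obtain ⟨h, hh⟩ := Module.Injective.out φ hφ g
  refine ⟨h (Submodule.Quotient.mk 1), fun a ha => ?_, ?_⟩
  · rw [← map_smul, ← Submodule.Quotient.mk_smul, smul_eq_mul, mul_one,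
      (Submodule.Quotient.mk_eq_zero J).2 ha, map_zero]
  · refine ((map_smul h _ _).symm.trans (hh (Submodule.Quotient.mk 1))).trans ?_
    exact one_smul A _

/-- Positive Koszul cohomology of an injective module dies in the limit over the powers. -/
theorem exists_transH_eq_zero [IsNoetherianRing A] (M : ModuleCat.{u} A) [Module.Injective A M] :
    ∀ (fs : List A) (i : ℤ), -(fs.length : ℤ) < i → ∀ (n : ℕ) (z : (powCx M fs n).homology i),
      ∃ (m : ℕ) (h : n ≤ m), transH M fs h i z = 0
  | [], i, hi, n, z => ⟨n, le_rfl, (transH_refl M [] i z).trans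
      (koszulH_eq_zero_of_lt M [] i (Or.inl (by simpa using hi)) z)⟩
  | f :: fs, i, hi, n, z => by
    have hi' : -(fs.length : ℤ) ≤ i := by simp at hi; omega
    have comm : ∀ {n m : ℕ} (h : n ≤ m), mulBy (f ^ n) (powCx M fs n) ≫
        (f ^ (m - n) • CohIII.koszulTrans M n m h fs) =
          CohIII.koszulTrans M n m h fs ≫ mulBy (f ^ m) (powCx M fs m) := by
      intro n m h
      simp only [mulBy, Linear.smul_comp, Linear.comp_smul, Category.id_comp, Category.comp_id, smul_smul,
        ← pow_add, Nat.sub_add_cancel h, Nat.add_sub_cancel' h]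
    obtain ⟨m₁, h₁, hz⟩ := exists_transH_eq_zero M fs (i + 1) (by omega) n
      (coneδ (mulBy (f ^ n) (powCx M fs n)) i (i + 1) rfl z)
    have c := ConcreteCategory.congr_hom (coneδ_naturality (mulBy (f ^ n) (powCx M fs n))
      (mulBy (f ^ m₁) (powCx M fs m₁)) _ _ (comm h₁) i (i + 1) rfl) z
    obtain ⟨v, hv⟩ := (coneδ_eq_zero_iff (f ^ m₁) (powCx M fs m₁) i (i + 1) rfl (transH M (f :: fs) h₁ i z)).1
      (c.symm.trans hz)
    have key : ∀ {m : ℕ} (h : m₁ ≤ m), (∃ y, f ^ m • y = f ^ (m - m₁) • transH M fs h i v) →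
        transH M (f :: fs) (h₁.trans h) i z = 0 := by
      intro m h hy
      rw [← transH_transH M (f :: fs) h₁ h i z, ← hv]
      refine (ConcreteCategory.congr_hom (coneι_naturality (mulBy (f ^ m₁) (powCx M fs m₁))
        (mulBy (f ^ m) (powCx M fs m)) _ _ (comm h) i) v).trans ?_
      refine (coneι_eq_zero_iff (f ^ m) (powCx M fs m) i _).2 ?_
      rw [homologyMap_smul]
      exact hy
    rcases eq_or_lt_of_le hi' with hbot | hlt
    · set J := Ideal.span {a | a ∈ fs.map (· ^ m₁)} with hJ
      obtain ⟨c, hc⟩ := exists_smul_eq_of_injective (M := M) J f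
      obtain ⟨einj, erange⟩ := bottomMap_spec M (fs.map (· ^ m₁)) i (by simp; omega)
      obtain ⟨einj', erange'⟩ := bottomMap_spec M (fs.map (· ^ (m₁ + c))) i (by simp; omega)
      obtain ⟨w, hw, hwu⟩ := hc m₁ (bottomMap M (fs.map (· ^ m₁)) i (by simp; omega) v) fun a ha =>
        (Ideal.span_le (I := LinearMap.ker (LinearMap.toSpanSingleton A M
          (bottomMap M (fs.map (· ^ m₁)) i (by simp; omega) v)))).2 ((erange _).1 ⟨v, rfl⟩) ha
      refine ⟨m₁ + c, h₁.trans (Nat.le_add_right _ _), key (Nat.le_add_right _ _) ?_⟩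
      obtain ⟨y, hy⟩ := (erange' w).2 fun a ha => hw a (by
        obtain ⟨b, hb, rfl⟩ := List.mem_map.1 ha
        rw [pow_add]
        exact J.mul_mem_right _ (Ideal.subset_span (List.mem_map.2 ⟨b, hb, rfl⟩)))
      refine ⟨y, einj' ?_⟩
      rw [map_smul, map_smul, hy]
      have e := ConcreteCategory.congr_hom (bottomMap_trans M (Nat.le_add_right m₁ c) fs i hbot.symm) v
      exact hwu.trans (congrArg₂ (· • ·) (by rw [Nat.add_sub_cancel_left]) e.symm)
    · obtain ⟨m₂, h₂, hv0⟩ := exists_transH_eq_zero M fs i hlt m₁ v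
      exact ⟨m₂, h₁.trans h₂, key h₂ ⟨0, by rw [hv0, smul_zero, smul_zero]⟩⟩

end Groth.Agent.KoszulCone
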